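import Mathlib

/-!
# The two charts of the blow-up of a Weierstrass cubic at the origin
-/

namespace Groth.Agent.CAlgSmall

universe u
open MvPolynomial

variable {R : Type u} [CommRing R]

/-- Setting the first of two variables to zero. -/
noncomputable def restrictZero : MvPolynomial (Fin 2) R →ₐ[R] Polynomial R :=
  aeval ![0, Polynomial.X]

/-- The embedding of the one variable ring as polynomials in the second variable. -/
noncomputable def inclOne : Polynomial R →ₐ[R] MvPolynomial (Fin 2) R :=
  Polynomial.aeval (X 1)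

lemma X_zero_dvd_of_restrictZero {t : MvPolynomial (Fin 2) R} (h : restrictZero t = 0) :
    (X 0 : MvPolynomial (Fin 2) R) ∣ t := by
  have key : ∀ p : MvPolynomial (Fin 2) R, X 0 ∣ p - inclOne (restrictZero p) := by
    intro p
    induction p using MvPolynomial.induction_on with
    | C r => simp [restrictZero, inclOne]
    | add p q hp hq =>
      rw [map_add, map_add, add_sub_add_comm]
      exact dvd_add hp hq
    | mul_X p i hp =>
      rw [map_mul, map_mul]
      fin_cases i
      · simp [restrictZero, inclOne]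
      · simpa [restrictZero, inclOne, sub_mul] using dvd_mul_of_dvd_left hp (X 1)
  simpa [h] using key t

/-- `X 0` is saturated in an ideal `(g)` when `g` restricts to a nonzerodivisor on `X 0 = 0`. -/
lemma saturation_iff {g : MvPolynomial (Fin 2) R}
    (hg : ∀ t, restrictZero g * t = 0 → t = 0) (s : MvPolynomial (Fin 2) R) :
    (∃ n : ℕ, X 0 ^ n * s ∈ Ideal.span ({X 0 ^ 2 * g} : Set (MvPolynomial (Fin 2) R))) ↔
      s ∈ Ideal.span ({g} : Set (MvPolynomial (Fin 2) R)) := by
  constructor
  · rintro ⟨n, hn⟩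
    have hn' : X 0 ^ n * s ∈ Ideal.span ({g} : Set (MvPolynomial (Fin 2) R)) :=
      Ideal.span_singleton_le_iff_mem _ |>.mpr
        (Ideal.mul_mem_left _ _ (Ideal.mem_span_singleton_self g)) hn
    clear hn
    induction n with
    | zero => simpa using hn'
    | succ n ih =>
      apply ih
      obtain ⟨t, ht⟩ := Ideal.mem_span_singleton.mp hn'
      have h0 : restrictZero t = 0 := hg _ (by
        rw [← map_mul, ← ht]; simp [restrictZero, pow_succ])
      obtain ⟨t', rfl⟩ := X_zero_dvd_of_restrictZero h0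
      refine Ideal.mem_span_singleton.mpr ⟨t', ?_⟩
      rw [← X_mul_cancel_left_iff (i := (0 : Fin 2))]
      linear_combination ht
  · intro hs
    obtain ⟨t, rfl⟩ := Ideal.mem_span_singleton.mp hs
    exact ⟨2, Ideal.mem_span_singleton.mpr ⟨t, by ring⟩⟩

/-- A polynomial with constant coefficient one is a nonzerodivisor. -/
lemma eq_zero_of_mul_eq_zero_of_coeff_zero {p t : Polynomial R} (hp : p.coeff 0 = 1)
    (h : p * t = 0) : t = 0 := by
  have hu : IsUnit (p : PowerSeries R) := by
    rw [PowerSeries.isUnit_iff_constantCoeff, Polynomial.constantCoeff_coe, hp]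
    exact isUnit_one
  have : (p : PowerSeries R) * (t : PowerSeries R) = 0 := by
    rw [← Polynomial.coe_mul, h, Polynomial.coe_zero]
  exact Polynomial.coe_eq_zero_iff.mp (hu.mul_right_eq_zero.mp this)

variable (a₁ a₂ : R)

lemma chart₁_nzd (t : Polynomial R)
    (h : restrictZero (1 + C a₁ * X 1 - X 0 * X 1 ^ 3 - C a₂ * X 1 ^ 2) * t = 0) : t = 0 :=
  eq_zero_of_mul_eq_zero_of_coeff_zero (by simp [restrictZero]) h

lemma chart₂_nzd (t : Polynomial R)
    (h : restrictZero (X 1 ^ 2 + C a₁ * X 1 - X 0 - C a₂) * t = 0) : t = 0 := by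
  refine (Polynomial.Monic.mul_right_eq_zero_iff ?_).mp h
  simp only [restrictZero, map_sub, map_add, map_mul, map_pow, aeval_X, aeval_C]
  simp only [Matrix.cons_val_zero, Matrix.cons_val_one, sub_zero]
  simp only [Polynomial.algebraMap_eq]
  monicity!

/-- Smoothness of a quotient of a polynomial ring whose equation can always be solved by lifts. -/
lemma smooth_quotient_singleton {σ : Type} [Finite σ] (g : MvPolynomial σ R)
    (H : ∀ (B : Type u) [CommRing B] [Algebra R B] (I : Ideal B), I ^ 2 = ⊥ →
      ∀ v : σ → B ⧸ I, aeval v g = 0 →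
        ∃ w : σ → B, (∀ i, Ideal.Quotient.mk I (w i) = v i) ∧ aeval w g = 0) :
    Algebra.Smooth R (MvPolynomial σ R ⧸ Ideal.span ({g} : Set (MvPolynomial σ R))) := by
  refine ⟨Algebra.FormallySmooth.of_comp_surjective fun B _ _ I hI f => ?_, ?_⟩
  · let J := Ideal.span ({g} : Set (MvPolynomial σ R))
    let f' : MvPolynomial σ R →ₐ[R] B ⧸ I := f.comp (Ideal.Quotient.mkₐ R J)
    have hg : aeval (fun i => f' (X i)) g = 0 := by
      rw [show (fun i => f' (X i)) = f' ∘ X from rfl, ← aeval_unique f']
      change f (Ideal.Quotient.mk J g) = 0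
      rw [Ideal.Quotient.eq_zero_iff_mem.mpr (Ideal.mem_span_singleton_self g), map_zero]
    obtain ⟨w, hw, hwg⟩ := H B I hI (fun i => f' (X i)) hg
    refine ⟨Ideal.Quotient.liftₐ J (aeval w) (fun a ha => ?_),
      Ideal.Quotient.algHom_ext R (MvPolynomial.algHom_ext fun i => ?_)⟩
    · obtain ⟨c, rfl⟩ := Ideal.mem_span_singleton.mp ha
      rw [map_mul, hwg, zero_mul]
    · change Ideal.Quotient.mk I (aeval w (X i)) = f' (X i)
      rw [aeval_X]
      exact hw i
  · exact Algebra.FinitePresentation.quotient (Submodule.fg_span_singleton g)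

/-- The first chart is smooth. -/
theorem smooth_chart₁ : Algebra.Smooth R (MvPolynomial (Fin 2) R ⧸
    Ideal.span ({1 + C a₁ * X 1 - X 0 * X 1 ^ 3 - C a₂ * X 1 ^ 2} :
      Set (MvPolynomial (Fin 2) R))) := by
  refine smooth_quotient_singleton _ fun B _ _ I hI v hv => ?_
  simp only [map_sub, map_add, map_mul, map_pow, map_one, aeval_X, aeval_C] at hv
  obtain ⟨α, hα⟩ := Ideal.Quotient.mk_surjective (v 1)
  have hv' : v 1 * (v 0 * v 1 ^ 2 + algebraMap R (B ⧸ I) a₂ * v 1 - algebraMap R (B ⧸ I) a₁) = 1 := by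
    linear_combination -hv
  have hu : IsUnit α := by
    refine IsNilpotent.isUnit_quotient_mk_iff (I := I) ⟨2, hI⟩ |>.mp ?_
    rw [hα]
    exact IsUnit.of_mul_eq_one _ hv'
  obtain ⟨u, hu'⟩ := (hu.pow 3).exists_right_inv
  let y : B := (1 + algebraMap R B a₁ * α - algebraMap R B a₂ * α ^ 2) * u
  refine ⟨![y, α], fun i => ?_, ?_⟩
  · fin_cases i
    · have hu'' : v 1 ^ 3 * Ideal.Quotient.mk I u = 1 := by
        rw [← hα, ← map_pow, ← map_mul, hu', map_one]
      simp only [Fin.zero_eta, Fin.isValue, Matrix.cons_val_zero, y]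
      rw [map_mul, map_sub, map_add, map_mul, map_mul, map_pow, map_one, hα,
        Ideal.Quotient.mk_algebraMap, Ideal.Quotient.mk_algebraMap]
      linear_combination (Ideal.Quotient.mk I u) * hv + v 0 * hu''
    · simpa using hα
  · simp only [map_sub, map_add, map_mul, map_pow, map_one, aeval_X, aeval_C,
      Matrix.cons_val_zero, Matrix.cons_val_one, y]
    linear_combination -(1 + algebraMap R B a₁ * α - algebraMap R B a₂ * α ^ 2) * hu'

/-- The second chart is smooth. -/
theorem smooth_chart₂ : Algebra.Smooth R (MvPolynomial (Fin 2) R ⧸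
    Ideal.span ({X 1 ^ 2 + C a₁ * X 1 - X 0 - C a₂} : Set (MvPolynomial (Fin 2) R))) := by
  refine smooth_quotient_singleton _ fun B _ _ I hI v hv => ?_
  simp only [map_sub, map_add, map_mul, map_pow, aeval_X, aeval_C] at hv
  obtain ⟨β, hβ⟩ := Ideal.Quotient.mk_surjective (v 1)
  refine ⟨![β ^ 2 + algebraMap R B a₁ * β - algebraMap R B a₂, β], fun i => ?_, ?_⟩
  · fin_cases i
    · simp only [Fin.zero_eta, Fin.isValue, Matrix.cons_val_zero]
      rw [map_sub, map_add, map_mul, map_pow, hβ, Ideal.Quotient.mk_algebraMap,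
        Ideal.Quotient.mk_algebraMap]
      linear_combination hv
    · simpa using hβ
  · simp only [map_sub, map_add, map_mul, map_pow, aeval_X, aeval_C,
      Matrix.cons_val_zero, Matrix.cons_val_one]
    ring

end Groth.Agent.CAlgSmall
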