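import Mathlib

/-!
# Finite reduced algebras over an algebraically closed field
-/

namespace Groth.Agent.CAlgSmall

open scoped TensorProduct

/-- A finite reduced algebra over a perfect field is formally étale. -/
theorem formallyEtale_of_isReduced_of_finite (k : Type*) [Field k] [PerfectField k]
    (A : Type*) [CommRing A] [Algebra k A] [Module.Finite k A] [IsReduced A] :
    Algebra.FormallyEtale k A := by
  classical
  have : IsArtinianRing A := .of_finite k A
  have (I : MaximalSpectrum A) : Algebra.FormallyEtale k (A ⧸ I.asIdeal) := by
    letI := Ideal.Quotient.field I.asIdeal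
    have : Algebra.IsAlgebraic k (A ⧸ I.asIdeal) := Algebra.IsAlgebraic.of_finite k _
    exact Algebra.FormallyEtale.of_isSeparable k _
  exact Algebra.FormallyEtale.of_equiv ((IsArtinianRing.equivPi A).restrictScalars k).symm

/-- A tensor product of finite reduced algebras over a perfect field is reduced. -/
theorem isReduced_tensorProduct (k : Type*) [Field k] [PerfectField k]
    (A : Type*) [CommRing A] [Algebra k A] [Module.Finite k A] [IsReduced A]
    (B : Type*) [CommRing B] [Algebra k B] [Module.Finite k B] [IsReduced B] :
    IsReduced (A ⊗[k] B) := by
  have := formallyEtale_of_isReduced_of_finite k A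
  have := formallyEtale_of_isReduced_of_finite k B
  have : Algebra.FormallyEtale k (A ⊗[k] B) := Algebra.FormallyEtale.comp k A _
  exact Algebra.FormallyUnramified.isReduced_of_field k _

end Groth.Agent.CAlgSmall
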