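import Mathlib

/-!
# The finite scheme attached to a Frobenius-linear endomorphism of a free module
-/

namespace Groth.Agent.CAlgSmall

universe u
open MvPolynomial

variable {p n : ℕ} {A : Type u} [CommRing A]

/-- The relations `X_j ^ p - Σ_i h_ij X_i`. -/
noncomputable def frobRel (p : ℕ) (h : Matrix (Fin n) (Fin n) A) (j : Fin n) :
    MvPolynomial (Fin n) A :=
  X j ^ p - ∑ i : Fin n, C (h i j) * X i

/-- Lifting solutions of the relations along a square-zero ideal, uniquely, for an invertible matrix. -/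
lemma frobRel_existsUnique_lift [Fact p.Prime] [CharP A p] (h : Matrix (Fin n) (Fin n) A)
    (hd : IsUnit h.det) {B : Type*} [CommRing B] [Algebra A B] (I : Ideal B) (hI : I ^ 2 = ⊥)
    (v : Fin n → B ⧸ I) (hv : ∀ j, aeval v (frobRel p h j) = 0) :
    ∃! w : Fin n → B, (∀ i, Ideal.Quotient.mk I (w i) = v i) ∧ ∀ j, aeval w (frobRel p h j) = 0 := by
  classical
  have hp : (p : B) = 0 := by rw [← map_natCast (algebraMap A B), CharP.cast_eq_zero, map_zero]
  have hpow : ∀ a δ : B, δ ∈ I → (a + δ) ^ p = a ^ p := fun a δ hδ => by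
    obtain ⟨r, hr⟩ := exists_add_pow_prime_eq (R := B) (Fact.out : p.Prime) a δ
    rw [hr, hp, zero_mul, zero_mul, zero_mul, add_zero, add_eq_left, ← Ideal.mem_bot, ← hI]
    exact Ideal.pow_le_pow_right (Nat.Prime.two_le (Fact.out : p.Prime)) (Ideal.pow_mem_pow hδ p)
  choose w₀ hw₀ using fun i => Ideal.Quotient.mk_surjective (v i)
  let M : Matrix (Fin n) (Fin n) B := h.map (algebraMap A B)
  have hM : IsUnit M.det := by
    rw [show M.det = algebraMap A B h.det from ((algebraMap A B).map_det h).symm]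
    exact hd.map _
  have hev : ∀ (w : Fin n → B) j, aeval w (frobRel p h j) = w j ^ p - (Matrix.vecMul w M) j := by
    intro w j
    simp only [frobRel, map_sub, map_pow, map_sum, map_mul, aeval_X, aeval_C, Matrix.vecMul,
      dotProduct, M, Matrix.map_apply, mul_comm]
  let e : Fin n → B := fun j => aeval w₀ (frobRel p h j)
  have he : ∀ j, e j ∈ I := fun j => by
    rw [← Ideal.Quotient.eq_zero_iff_mem, ← hv j]
    show Ideal.Quotient.mkₐ A I (aeval w₀ (frobRel p h j)) = _
    rw [← AlgHom.comp_apply, comp_aeval]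
    congr 2
    exact funext hw₀
  have hshift : ∀ δ : Fin n → B, (∀ i, δ i ∈ I) → ∀ j,
      aeval (w₀ + δ) (frobRel p h j) = e j - Matrix.vecMul δ M j := by
    intro δ hδ j
    simp only [e, hev, Pi.add_apply, hpow _ _ (hδ j), Matrix.add_vecMul]
    ring
  let δ : Fin n → B := Matrix.vecMul e M⁻¹
  have hδ : ∀ i, δ i ∈ I := fun i => by
    simp only [δ, Matrix.vecMul, dotProduct]
    exact Ideal.sum_mem _ fun j _ => Ideal.mul_mem_right _ _ (he j)
  have hδM : Matrix.vecMul δ M = e := by
    simp only [δ, Matrix.vecMul_vecMul, Matrix.nonsing_inv_mul _ hM, Matrix.vecMul_one]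
  refine ⟨w₀ + δ, ⟨fun i => ?_, fun j => by rw [hshift δ hδ, hδM, sub_self]⟩, ?_⟩
  · rw [Pi.add_apply, map_add, hw₀, Ideal.Quotient.eq_zero_iff_mem.mpr (hδ i), add_zero]
  · rintro w ⟨hw, hwe⟩
    have hd' : ∀ i, w i - w₀ i ∈ I := fun i => by rw [← Ideal.Quotient.eq, hw, hw₀]
    have h1 : ∀ j, e j = Matrix.vecMul (fun i => w i - w₀ i) M j := fun j => by
      have := hshift _ hd' j
      rw [show (w₀ + fun i => w i - w₀ i) = w by ext i; simp, hwe j] at this
      linear_combination -this
    have h2 : δ = fun i => w i - w₀ i := by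
      have h3 : e = Matrix.vecMul (fun i => w i - w₀ i) M := funext h1
      simp only [δ, h3, Matrix.vecMul_vecMul, Matrix.mul_nonsing_inv _ hM, Matrix.vecMul_one]
    ext i
    simp [h2]

variable (p) in
/-- The criterion for étaleness. -/
theorem etale_frobRel_iff [Fact p.Prime] [CharP A p] (h : Matrix (Fin n) (Fin n) A) :
    Algebra.Etale A (MvPolynomial (Fin n) A ⧸ Ideal.span (Set.range (frobRel p h))) ↔
      IsUnit h.det := by
  classical
  set J := Ideal.span (Set.range (frobRel p h)) with hJ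
  constructor
  · intro _
    by_contra hd
    obtain ⟨m, hm, hdm⟩ := exists_max_ideal_of_mem_nonunits hd
    letI := Ideal.Quotient.field m
    have hdet : (h.map (Ideal.Quotient.mk m)).det = 0 := by
      rw [← RingHom.mapMatrix_apply, ← RingHom.map_det, Ideal.Quotient.eq_zero_iff_mem.mpr hdm]
    obtain ⟨v, hv0, hv⟩ := Matrix.exists_vecMul_eq_zero_iff.mpr hdet
    let F := A ⧸ m
    let I : Ideal (DualNumber F) := RingHom.ker (TrivSqZeroExt.fstHom A F F).toRingHom
    have hI : I ^ 2 = ⊥ := by
      rw [pow_two, eq_bot_iff, Ideal.mul_le]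
      intro a ha b hb
      have ha' : TrivSqZeroExt.fst a = 0 := ha
      have hb' : TrivSqZeroExt.fst b = 0 := hb
      rw [Ideal.mem_bot]
      ext <;> simp [ha', hb']
    have key : ∀ w : Fin n → F, Matrix.vecMul w (h.map (Ideal.Quotient.mk m)) = 0 →
        ∃ φ : (MvPolynomial (Fin n) A ⧸ J) →ₐ[A] DualNumber F,
          (∀ i, φ (Ideal.Quotient.mk J (X i)) = TrivSqZeroExt.inr (w i)) := by
      intro w hw
      refine ⟨Ideal.Quotient.liftₐ J (aeval fun i => TrivSqZeroExt.inr (w i)) ?_, fun i => ?_⟩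
      · intro a ha
        have hle : J ≤ RingHom.ker
            (aeval (fun i => (TrivSqZeroExt.inr (w i) : DualNumber F)) :
              MvPolynomial (Fin n) A →ₐ[A] DualNumber F).toRingHom := by
          rw [hJ, Ideal.span_le]
          rintro _ ⟨j, rfl⟩
          have hj : ∑ i, Ideal.Quotient.mk m (h i j) * w i = 0 := by
            have := congrFun hw j
            simpa [Matrix.vecMul, dotProduct, mul_comm] using this
          have hpw : (TrivSqZeroExt.inr (w j) : DualNumber F) ^ p = 0 := by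
            rw [← Nat.add_sub_cancel' (Nat.Prime.two_le (Fact.out : p.Prime)), pow_add, pow_two,
              TrivSqZeroExt.inr_mul_inr, zero_mul]
          simp only [SetLike.mem_coe, RingHom.mem_ker, AlgHom.toRingHom_eq_coe, RingHom.coe_coe,
            frobRel, map_sub, map_pow, map_sum, map_mul, aeval_X, aeval_C, hpw, zero_sub,
            neg_eq_zero, ← Algebra.smul_def, ← TrivSqZeroExt.inr_smul, ← TrivSqZeroExt.inr_sum]
          rw [← TrivSqZeroExt.inr_zero F, TrivSqZeroExt.inr_injective.eq_iff]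
          refine Eq.trans (Finset.sum_congr rfl fun i _ => ?_) hj
          rw [Algebra.smul_def]
          rfl
        exact hle ha
      · show aeval (fun i => (TrivSqZeroExt.inr (w i) : DualNumber F)) (X i) = _
        rw [aeval_X]
    obtain ⟨φ, hφ⟩ := key v hv
    obtain ⟨φ₀, hφ₀⟩ := key 0 (Matrix.zero_vecMul _)
    have := Algebra.FormallyUnramified.comp_injective (R := A) I hI (a₁ := φ) (a₂ := φ₀) (by
      refine Ideal.Quotient.algHom_ext A (MvPolynomial.algHom_ext fun i => ?_)
      show Ideal.Quotient.mk I (φ (Ideal.Quotient.mk J (X i))) =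
        Ideal.Quotient.mk I (φ₀ (Ideal.Quotient.mk J (X i)))
      rw [hφ, hφ₀, Ideal.Quotient.eq]
      simp [I, RingHom.mem_ker])
    refine hv0 (funext fun i => TrivSqZeroExt.inr_injective (R := F) ?_)
    rw [← hφ, this, hφ₀]
  · intro hd
    refine ⟨Algebra.FormallyEtale.iff_comp_bijective.mpr fun B _ _ I hI => ⟨?_, ?_⟩,
      Algebra.FinitePresentation.quotient (Submodule.fg_span (Set.finite_range _))⟩
    all_goals
      have hrel : ∀ {C : Type u} [CommRing C] [Algebra A C]
          (φ : (MvPolynomial (Fin n) A ⧸ J) →ₐ[A] C) (j : Fin n),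
          aeval (fun i => φ (Ideal.Quotient.mk J (X i))) (frobRel p h j) = 0 := fun {C} _ _ φ j => by
        rw [show (fun i => φ (Ideal.Quotient.mk J (X i))) = (φ.comp (Ideal.Quotient.mkₐ A J)) ∘ X
          from rfl, ← aeval_unique, AlgHom.comp_apply, Ideal.Quotient.mkₐ_eq_mk,
          Ideal.Quotient.eq_zero_iff_mem.mpr (hJ ▸ Ideal.subset_span ⟨j, rfl⟩), map_zero]
    · intro φ ψ hφψ
      obtain ⟨w, -, huniq⟩ := frobRel_existsUnique_lift h hd I hI _
        (hrel ((Ideal.Quotient.mkₐ A I).comp φ))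
      have h1 := huniq (fun i => φ (Ideal.Quotient.mk J (X i))) ⟨fun i => rfl, hrel φ⟩
      have h2 := huniq (fun i => ψ (Ideal.Quotient.mk J (X i)))
        ⟨fun i => (AlgHom.congr_fun hφψ _).symm, hrel ψ⟩
      exact Ideal.Quotient.algHom_ext A
        (MvPolynomial.algHom_ext fun i => congrFun (h1.trans h2.symm) i)
    · intro f
      obtain ⟨w, ⟨hw, hwe⟩, -⟩ := frobRel_existsUnique_lift h hd I hI _ (hrel f)
      refine ⟨Ideal.Quotient.liftₐ J (aeval w) fun a ha => ?_,
        Ideal.Quotient.algHom_ext A (MvPolynomial.algHom_ext fun i => ?_)⟩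
      · have hle : J ≤ RingHom.ker (aeval (R := A) w).toRingHom := by
          rw [hJ, Ideal.span_le]
          rintro _ ⟨j, rfl⟩
          exact hwe j
        exact hle ha
      · show Ideal.Quotient.mk I (aeval w (X i)) = f (Ideal.Quotient.mk J (X i))
        rw [aeval_X, hw]

end Groth.Agent.CAlgSmall
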