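import Mathlib

/-!
# Elements vanishing at minimal primes over a principal ideal, and modifications
-/

namespace Groth.Agent.CAlgSmall

open LocalizedModule

variable {A : Type*} [CommRing A] {M : Type*} [AddCommGroup M] [Module A M]

lemma mem_ker_mkLinearMap_iff {P : Ideal A} [P.IsPrime] {x : M} :
    x ∈ LinearMap.ker (mkLinearMap P.primeCompl M) ↔ ∃ t : A, t ∉ P ∧ t • x = 0 := by
  rw [LinearMap.mem_ker, IsLocalizedModule.eq_zero_iff P.primeCompl (mkLinearMap P.primeCompl M)]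
  exact ⟨fun ⟨t, ht⟩ => ⟨t, t.2, ht⟩, fun ⟨t, h, ht⟩ => ⟨⟨t, h⟩, ht⟩⟩

/-- At a minimal prime over `(π)` every element of the prime is nilpotent modulo `π`, locally. -/
lemma exists_mul_pow_mem_span {π a : A} {P : Ideal A} (hP : P ∈ (Ideal.span {π}).minimalPrimes)
    (ha : a ∈ P) : ∃ (n : ℕ) (t : A), t ∉ P ∧ t * a ^ n ∈ Ideal.span {π} := by
  by_contra! h
  haveI := hP.1.1
  obtain ⟨q, hq, hle, hd⟩ := Ideal.exists_le_prime_disjoint
    (P.primeCompl ⊔ Submonoid.powers a) (I := Ideal.span {π}) (by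
      rw [Set.disjoint_left]
      intro z hz hz'
      obtain ⟨t, ht, _, ⟨n, rfl⟩, rfl⟩ := Submonoid.mem_sup.mp hz'
      exact h n t ht hz)
  have hqP : q ≤ P := fun z hz => by
    by_contra hzP
    exact Set.disjoint_left.mp hd hz (Submonoid.mem_sup_left (show z ∈ P.primeCompl from hzP))
  exact Set.disjoint_left.mp hd (hP.2 ⟨hq, hle⟩ hqP ha)
    (Submonoid.mem_sup_right (Submonoid.mem_powers a))

variable {ι : Type*} [Finite ι] {π : A} {𝔓 : ι → Ideal A} [∀ i, (𝔓 i).IsPrime]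
  (h𝔓 : ∀ i, 𝔓 i ∈ (Ideal.span {π}).minimalPrimes) (hinj : Function.Injective 𝔓)

include h𝔓 hinj in
/-- A scalar outside one of the primes, killing `M / π M` locally at some of the other primes. -/
lemma exists_scalar {i : ι} {Y : Set ι} (hi : i ∉ Y) :
    ∃ s : A, s ∉ 𝔓 i ∧ ∀ j ∈ Y, ∃ t : A, t ∉ 𝔓 j ∧
      ∀ x : M, t • s • x ∈ Ideal.span {π} • (⊤ : Submodule A M) := by
  classical
  haveI := Fintype.ofFinite ι
  have hex : ∀ j ∈ Y.toFinset, ∃ (a : A), a ∈ 𝔓 j ∧ a ∉ 𝔓 i := fun j hj => by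
    rw [Set.mem_toFinset] at hj
    by_contra! hle
    have hle' : 𝔓 j ≤ 𝔓 i := hle
    have : 𝔓 i ≤ 𝔓 j := (h𝔓 i).2 (h𝔓 j).1 hle'
    exact hi (hinj (le_antisymm hle' this) ▸ hj)
  choose! a ha ha' using hex
  have hn : ∀ j ∈ Y.toFinset, ∃ (n : ℕ) (t : A), t ∉ 𝔓 j ∧ t * a j ^ n ∈ Ideal.span {π} :=
    fun j hj => exists_mul_pow_mem_span (h𝔓 j) (ha j hj)
  choose! n t ht hmem using hn
  refine ⟨∏ j ∈ Y.toFinset, a j ^ n j, ?_, fun j hj => ⟨t j, ht j (by simpa using hj), fun x => ?_⟩⟩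
  · intro h
    obtain ⟨j, hj, h⟩ := (Ideal.IsPrime.prod_mem_iff (hp := inferInstance)).mp h
    exact ha' j hj ((inferInstance : (𝔓 i).IsPrime).mem_of_pow_mem _ h)
  · have hj' : j ∈ Y.toFinset := by simpa using hj
    rw [smul_smul, ← Finset.mul_prod_erase _ _ hj', ← mul_assoc]
    exact Submodule.smul_mem_smul (Ideal.mul_mem_right _ _ (hmem j hj')) Submodule.mem_top

end Groth.Agent.CAlgSmall

namespace Groth.Agent.CAlgSmall

lemma mem_span_singleton_smul_top {A : Type*} [CommRing A] {M : Type*} [AddCommGroup M] [Module A M]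
    {π : A} {x : M} :
    x ∈ Ideal.span {π} • (⊤ : Submodule A M) ↔ ∃ z, z ∈ (⊤ : Submodule A M) ∧ π • z = x := by
  rw [Submodule.ideal_span_singleton_smul, Submodule.mem_smul_pointwise_iff_exists]

end Groth.Agent.CAlgSmall
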