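import Mathlib
import Groth.Agent.PSLib.Basic

/-!
# Square-zero extensions of complete Noetherian local rings
-/

namespace Groth.Agent.CAlgSmall

universe u v w z

variable {A : Type u} {E : Type v} [CommRing A] [CommRing E] [IsNoetherianRing A]

/-- A square-zero extension of a Noetherian ring by a finitely generated ideal is Noetherian. -/
theorem isNoetherianRing_of_sqZero (f : E →+* A) (hf : Function.Surjective f)
    (hsq : RingHom.ker f ^ 2 = ⊥) (hfg : (RingHom.ker f).FG) : IsNoetherianRing E := by
  set K := RingHom.ker f with hK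
  letI := f.toAlgebra
  have hA : IsNoetherian E A := by
    refine isNoetherian_def.mpr fun N => ?_
    let N' : Ideal A :=
      { N.toAddSubmonoid with
        smul_mem' := fun a x hx => by
          obtain ⟨e, rfl⟩ := hf a
          exact N.smul_mem e hx }
    have hfgN := ((IsNoetherian.noetherian N').restrictScalars_of_surjective (R := E) hf)
    exact (SetLike.ext fun _ => Iff.rfl : Submodule.restrictScalars E N' = N) ▸ hfgN
  have hEK : IsNoetherian E (E ⧸ K) :=
    isNoetherian_of_linearEquiv
      (LinearMap.quotKerEquivOfSurjective (Algebra.linearMap E A) hf).symm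
  obtain ⟨n, g, hg⟩ := Submodule.fg_iff_exists_fin_generating_family.mp hfg
  have hgK : ∀ i, g i ∈ K := fun i => hg ▸ Submodule.subset_span ⟨i, rfl⟩
  have hkill : ∀ i, K ≤ LinearMap.ker (LinearMap.toSpanSingleton E E (g i)) := fun i x hx => by
    rw [LinearMap.mem_ker, LinearMap.toSpanSingleton_apply, smul_eq_mul, ← Ideal.mem_bot, ← hsq,
      pow_two]
    exact Ideal.mul_mem_mul hx (hgK i)
  let φ : (Fin n → E ⧸ K) →ₗ[E] E :=
    LinearMap.lsum E (fun _ => E ⧸ K) E fun i => Submodule.liftQ K _ (hkill i)
  have hrange : LinearMap.range φ = K := by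
    refine le_antisymm ?_ ?_
    · rintro _ ⟨x, rfl⟩
      simp only [φ, LinearMap.lsum_apply, LinearMap.coe_sum, Finset.sum_apply, LinearMap.comp_apply,
        LinearMap.proj_apply]
      refine Submodule.sum_mem _ fun i _ => ?_
      obtain ⟨e, he⟩ := Submodule.Quotient.mk_surjective K (x i)
      rw [← he, Submodule.liftQ_apply, LinearMap.toSpanSingleton_apply]
      exact Submodule.smul_mem _ _ (hgK i)
    · conv_lhs => rw [← hg]
      rw [Submodule.span_le]
      rintro _ ⟨i, rfl⟩
      refine ⟨Pi.single i (Submodule.Quotient.mk 1), ?_⟩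
      simp only [φ, LinearMap.lsum_piSingle, Submodule.liftQ_apply, LinearMap.toSpanSingleton_apply,
        one_smul]
  exact isNoetherian_of_range_eq_ker φ (Submodule.mkQ K)
    (by rw [hrange, Submodule.ker_mkQ])

variable [IsLocalRing A] [IsAdicComplete (IsLocalRing.maximalIdeal A) A]

/-- A square-zero extension of a complete Noetherian local ring by a finitely generated ideal is
complete. -/
theorem isAdicComplete_of_sqZero (f : E →+* A) (hf : Function.Surjective f)
    (hsq : RingHom.ker f ^ 2 = ⊥) (hfg : (RingHom.ker f).FG) :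
    IsAdicComplete ((IsLocalRing.maximalIdeal A).comap f) E := by
  classical
  have := isNoetherianRing_of_sqZero f hf hsq hfg
  set I := (IsLocalRing.maximalIdeal A).comap f with hI
  have hmap : ∀ N : ℕ, (I ^ N).map f = IsLocalRing.maximalIdeal A ^ N := fun N => by
    rw [Ideal.map_pow, hI, Ideal.map_comap_of_surjective f hf]
  have hlift : ∀ (N : ℕ) (a : A), a ∈ IsLocalRing.maximalIdeal A ^ N → ∃ e ∈ I ^ N, f e = a :=
    fun N a ha => (Ideal.mem_map_iff_of_surjective f hf).mp ((hmap N).symm ▸ ha)
  have hjac : I ≤ Ideal.jacobson ⊥ := by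
    intro x hx
    rw [Ideal.mem_jacobson_bot]
    intro y
    have hu : IsUnit (f (x * y + 1)) := by
      by_contra hu
      rw [map_add, map_one, map_mul] at hu
      have h1 : f x * f y + 1 ∈ IsLocalRing.maximalIdeal A := hu
      have h2 : f x * f y ∈ IsLocalRing.maximalIdeal A := Ideal.mul_mem_right _ _ hx
      exact (Ideal.ne_top_iff_one _).mp (IsLocalRing.maximalIdeal.isMaximal A).ne_top
        (by simpa using sub_mem h1 h2)
    obtain ⟨b, hb⟩ := hu.exists_right_inv
    obtain ⟨a, rfl⟩ := hf b
    have hk : (x * y + 1) * a - 1 ∈ RingHom.ker f := by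
      rw [RingHom.mem_ker, map_sub, map_mul, hb, map_one, sub_self]
    have h0 : ((x * y + 1) * a - 1) * ((x * y + 1) * a - 1) = 0 := by
      rw [← Ideal.mem_bot, ← hsq, pow_two]
      exact Ideal.mul_mem_mul hk hk
    refine IsUnit.of_mul_eq_one (a * (2 - (x * y + 1) * a)) ?_
    linear_combination -h0
  have hH : IsHausdorff I E := IsHausdorff.of_le_jacobson I E hjac
  have hP : IsPrecomplete I E := by
    refine ⟨fun x hx => ?_⟩
    have hx' : ∀ {m n}, m ≤ n → x m - x n ∈ I ^ m := fun {m n} hmn => by
      have := hx hmn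
      rwa [SModEq.sub_mem, smul_eq_mul, Ideal.mul_top] at this
    obtain ⟨r, hr⟩ := IsPrecomplete.prec (I := IsLocalRing.maximalIdeal A) (M := A) inferInstance
      (f := fun n => f (x n)) (fun {m n} hmn => by
        rw [SModEq.sub_mem, smul_eq_mul, Ideal.mul_top, ← map_sub, ← hmap]
        exact Ideal.mem_map_of_mem _ (hx' hmn))
    have hy : ∀ N, ∃ y ∈ I ^ N, f y = r - f (x N) := fun N => by
      have := hr N
      rw [SModEq.sub_mem, smul_eq_mul, Ideal.mul_top] at this
      exact hlift N _ (by simpa using neg_mem this)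
    choose y hyI hyf using hy
    set z : ℕ → E := fun N => x N + y N with hz
    have hzK : ∀ m n, z m - z n ∈ RingHom.ker f := fun m n => by
      rw [RingHom.mem_ker, map_sub, map_add, map_add, hyf, hyf]; ring
    have hzI : ∀ {m n}, m ≤ n → z m - z n ∈ I ^ m := fun {m n} hmn => by
      rw [hz, add_sub_add_comm]
      exact add_mem (hx' hmn) (sub_mem (hyI m) (Ideal.pow_le_pow_right hmn (hyI n)))
    obtain ⟨c, hc⟩ := Ideal.exists_pow_inf_eq_pow_smul I (RingHom.ker f : Submodule E E)
    obtain ⟨n, g, hg⟩ := Submodule.fg_iff_exists_fin_generating_family.mp hfg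
    have hgK : ∀ i, g i ∈ RingHom.ker f := fun i => hg ▸ Submodule.subset_span ⟨i, rfl⟩
    have hstep : ∀ m, ∃ a : Fin n → E, (∀ i, a i ∈ I ^ m) ∧
        ∑ i, a i * g i = z (c + m + 1) - z (c + m) := by
      intro m
      have h1 : z (c + m + 1) - z (c + m) ∈
          (I ^ (c + m) • ⊤ : Submodule E E) ⊓ (RingHom.ker f : Submodule E E) := by
        refine ⟨?_, hzK _ _⟩
        rw [SetLike.mem_coe, smul_eq_mul, Ideal.mul_top, ← neg_sub]
        exact neg_mem (hzI (by omega))
      rw [hc (c + m) (by omega), show c + m - c = m by omega] at h1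
      have h2 : z (c + m + 1) - z (c + m) ∈ I ^ m • Submodule.span E (Set.range g) := by
        rw [hg]
        exact Submodule.smul_mono le_rfl inf_le_right h1
      obtain ⟨a, ha, hsum⟩ := (Submodule.mem_ideal_smul_span_iff_exists_sum _ g _).mp h2
      refine ⟨a, ha, ?_⟩
      rw [← hsum, Finsupp.sum_fintype _ _ (by simp)]
      simp [smul_eq_mul]
    choose a ha hsum using hstep
    have hser : ∀ i, ∃ t : E, ∀ m, ∃ e ∈ I ^ m, t - ∑ l ∈ Finset.range m, a l i - e ∈ RingHom.ker f := by
      intro i
      obtain ⟨s, hs⟩ := IsPrecomplete.prec (I := IsLocalRing.maximalIdeal A) (M := A) inferInstance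
        (f := fun m => f (∑ l ∈ Finset.range m, a l i)) (fun {m n} hmn => by
          rw [SModEq.sub_mem, smul_eq_mul, Ideal.mul_top, ← map_sub, ← hmap, ← neg_sub,
            ← Finset.sum_Ico_eq_sub _ hmn]
          refine Ideal.mem_map_of_mem _ (neg_mem (Ideal.sum_mem _ fun l hl => ?_))
          exact Ideal.pow_le_pow_right (Finset.mem_Ico.mp hl).1 (ha l i))
      obtain ⟨t, rfl⟩ := hf s
      refine ⟨t, fun m => ?_⟩
      have := hs m
      rw [SModEq.sub_mem, smul_eq_mul, Ideal.mul_top] at this
      obtain ⟨e, he, hfe⟩ := hlift m _ (neg_mem this)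
      refine ⟨e, he, ?_⟩
      rw [RingHom.mem_ker, map_sub, map_sub, hfe]
      ring
    choose t ht using hser
    refine ⟨z c + ∑ i, t i * g i, fun m => ?_⟩
    rw [SModEq.sub_mem, smul_eq_mul, Ideal.mul_top]
    have htel : z (c + m) = z c + ∑ i, (∑ l ∈ Finset.range m, a l i) * g i := by
      have : ∑ l ∈ Finset.range m, ∑ i, a l i * g i = z (c + m) - z c := by
        simp only [hsum]
        simpa [add_assoc] using Finset.sum_range_sub (fun l => z (c + l)) m
      rw [Finset.sum_comm] at this
      simp only [Finset.sum_mul, this]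
      ring
    have hdiff : ∑ i, (t i - ∑ l ∈ Finset.range m, a l i) * g i ∈ I ^ m := by
      refine Ideal.sum_mem _ fun i _ => ?_
      obtain ⟨e, he, hk⟩ := ht i m
      have h0 : (t i - ∑ l ∈ Finset.range m, a l i - e) * g i = 0 := by
        rw [← Ideal.mem_bot, ← hsq, pow_two]
        exact Ideal.mul_mem_mul hk (hgK i)
      rw [sub_mul, sub_eq_zero] at h0
      rw [h0]
      exact Ideal.mul_mem_right _ _ he
    rw [show x m - (z c + ∑ i, t i * g i) =
        (z m - z (c + m)) - y m - ∑ i, (t i - ∑ l ∈ Finset.range m, a l i) * g i by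
      rw [htel, show z m = x m + y m from rfl]
      simp only [sub_mul, Finset.sum_sub_distrib]
      ring]
    exact sub_mem (sub_mem (hzI (by omega)) (hyI m)) hdiff
  exact { }

/-- Homomorphisms from power series rings lift along square-zero extensions of complete Noetherian
local rings. -/
theorem exists_lift_mvPowerSeries {R : Type w} [CommRing R] {σ : Type z} [Finite σ]
    [Algebra R A] [Algebra R E]
    (π : MvPowerSeries σ R →ₐ[R] A) (hπ : Function.Surjective π)
    (f : E →ₐ[R] A) (hf : Function.Surjective f)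
    (hsq : RingHom.ker f.toRingHom ^ 2 = ⊥) (hfg : (RingHom.ker f.toRingHom).FG) :
    ∃ l : MvPowerSeries σ R →ₐ[R] E, f.comp l = π := by
  have := isAdicComplete_of_sqZero f.toRingHom hf hsq hfg
  obtain ⟨n, ⟨e⟩⟩ := Finite.exists_equiv_fin σ
  let r := MvPowerSeries.renameEquiv R e
  let π' : MvPowerSeries (Fin n) R →ₐ[R] A := π.comp r.symm.toAlgHom
  have hπ' : Function.Surjective π' := hπ.comp r.symm.surjective
  have hXm : ∀ i, π' (MvPowerSeries.X i) ∈ IsLocalRing.maximalIdeal A := by
    intro i
    by_contra h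
    obtain ⟨b, hb⟩ := (IsLocalRing.notMem_maximalIdeal.mp h).exists_right_inv
    obtain ⟨s, rfl⟩ := hπ' b
    have hu : IsUnit (1 - MvPowerSeries.X i * s) := by
      rw [MvPowerSeries.isUnit_iff_constantCoeff]
      simp
    have := hu.map π'
    rw [map_sub, map_one, map_mul, hb, sub_self] at this
    exact not_isUnit_zero this
  have hlift : ∀ i, ∃ b : E, f b = π' (MvPowerSeries.X i) := fun i => hf _
  choose b hb using hlift
  obtain ⟨ψ, hψ⟩ := PSLib.exists_algHom (R := R) ((IsLocalRing.maximalIdeal A).comap f.toRingHom) b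
    (fun i => by
      show f (b i) ∈ IsLocalRing.maximalIdeal A
      rw [hb]; exact hXm i)
  refine ⟨ψ.comp r.toAlgHom, ?_⟩
  have h : f.comp ψ = π' := PSLib.algHom_ext (I := IsLocalRing.maximalIdeal A) _ _
    (fun i => by rw [AlgHom.comp_apply, hψ, hb]; exact hXm i)
    (fun i => by rw [AlgHom.comp_apply, hψ, hb])
  rw [← AlgHom.comp_assoc, h]
  ext x
  simp [π']

end Groth.Agent.CAlgSmall
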